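import Mathlib
set_option linter.all false

/-!
# Sylow subgroups modulo a normal subgroup
-/

set_option autoImplicit false
set_option linter.style.haveILetI false
set_option linter.unusedSectionVars false

namespace Cfsg.Agent.H672.RM

universe u

variable {G : Type u} [Group G]

/-- `S` is a Sylow `p`-subgroup of `U`. -/
structure SylIn (p : ℕ) (S U : Subgroup G) : Prop where
  le : S ≤ U
  pg : IsPGroup p S
  ndvd : ¬ p ∣ S.relIndex U

/-- `P / L` is a Sylow `p`-subgroup of `U / L`. -/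
structure SM (p : ℕ) (L P U : Subgroup G) : Prop where
  le : L ≤ P
  le' : P ≤ U
  pow : ∃ k, L.relIndex P = p ^ k
  ndvd : ¬ p ∣ P.relIndex U

theorem relIndex_sup_of_le_normalizer {L S : Subgroup G}
    (hS : S ≤ Subgroup.normalizer (L : Set G)) : L.relIndex (L ⊔ S) = L.relIndex S := by
  have hL : L ≤ Subgroup.normalizer (L : Set G) := Subgroup.le_normalizer
  have h1 := Subgroup.relIndex_subgroupOf (H := L) (sup_le hL hS)
  have h2 := Subgroup.relIndex_subgroupOf (H := L) hS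
  rw [← h1, ← h2, Subgroup.subgroupOf_sup hL hS, Subgroup.relIndex_sup_left]

theorem map_conj_eq_of_mem {L : Subgroup G} {u : G} (hu : u ∈ Subgroup.normalizer (L : Set G)) :
    L.map (MulAut.conj u).toMonoidHom = L := by
  ext x
  rw [Subgroup.mem_map]
  constructor
  · rintro ⟨y, hy, rfl⟩
    exact ((Subgroup.mem_normalizer_iff.1 hu) y).1 hy
  · intro hx
    refine ⟨u⁻¹ * x * u, ?_, ?_⟩
    · have := ((Subgroup.mem_normalizer_iff.1 (Subgroup.inv_mem _ hu)) x).1 hx
      simpa using this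
    · change u * (u⁻¹ * x * u) * u⁻¹ = x
      group

theorem mem_normalizer_of_map_conj {L : Subgroup G} {u : G}
    (h : L.map (MulAut.conj u).toMonoidHom = L) : u ∈ Subgroup.normalizer (L : Set G) := by
  rw [Subgroup.mem_normalizer_iff]
  intro x
  constructor
  · intro hx
    rw [← h]
    exact ⟨x, hx, rfl⟩
  · intro hx
    rw [← h] at hx
    obtain ⟨y, hy, hy'⟩ := hx
    have : y = x := by
      have h2 : u * y * u⁻¹ = u * x * u⁻¹ := hy'
      exact mul_left_cancel (mul_right_cancel h2)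
    rwa [← this]

variable [Finite G] {p : ℕ} [hp : Fact p.Prime]

theorem exists_sylIn (U : Subgroup G) : ∃ S, SylIn p S U := by
  obtain ⟨Q⟩ : Nonempty (Sylow p U) := inferInstance
  refine ⟨(Q : Subgroup U).map U.subtype, Subgroup.map_subtype_le _, Q.isPGroup'.map _, ?_⟩
  have h := Q.not_dvd_index
  have h1 : ((Q : Subgroup U).map U.subtype).relIndex U = (Q : Subgroup U).index := by
    rw [Subgroup.relIndex, Subgroup.subgroupOf,
      Subgroup.comap_map_eq_self_of_injective U.subtype_injective]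
  rwa [h1]

theorem SylIn.conj {S S' U : Subgroup G} (h : SylIn p S U) (h' : SylIn p S' U) :
    ∃ u ∈ U, S.map (MulAut.conj u).toMonoidHom = S' := by
  have hpg : ∀ {R : Subgroup G}, R ≤ U → IsPGroup p R → IsPGroup p (R.subgroupOf U) := by
    intro R hR hRp
    exact hRp.of_equiv (Subgroup.subgroupOfEquivOfLe hR).symm
  let Q : Sylow p U := (hpg h.le h.pg).toSylow h.ndvd
  let Q' : Sylow p U := (hpg h'.le h'.pg).toSylow h'.ndvd
  obtain ⟨u, hu⟩ := MulAction.exists_smul_eq U Q Q'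
  have hu' : ((u • Q : Sylow p U) : Subgroup U) = S'.subgroupOf U := congrArg _ hu
  refine ⟨u, u.2, ?_⟩
  have e1 : S = (S.subgroupOf U).map U.subtype := by
    rw [Subgroup.subgroupOf_map_subtype, inf_eq_left.2 h.le]
  have e2 : S' = (S'.subgroupOf U).map U.subtype := by
    rw [Subgroup.subgroupOf_map_subtype, inf_eq_left.2 h'.le]
  ext x
  rw [Subgroup.mem_map]
  constructor
  · rintro ⟨y, hy, rfl⟩
    have hyU := h.le hy
    have h1 : u * ⟨y, hyU⟩ * u⁻¹ ∈ S'.subgroupOf U := by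
      rw [← hu']
      exact Subgroup.smul_mem_pointwise_smul _ (MulAut.conj u) (S.subgroupOf U) hy
    exact h1
  · intro hx
    have hxU := h'.le hx
    have h1 : (⟨x, hxU⟩ : U) ∈ S'.subgroupOf U := hx
    rw [← hu'] at h1
    obtain ⟨y, hy, hy'⟩ := h1
    refine ⟨y, hy, ?_⟩
    exact congrArg Subtype.val hy'

theorem SylIn.of_le {S U V : Subgroup G} (h : SylIn p S U) (hSV : S ≤ V) (hVU : V ≤ U) :
    SylIn p S V :=
  ⟨hSV, h.pg, fun hd => h.ndvd (by
    rw [← Subgroup.relIndex_mul_relIndex _ _ _ hSV hVU]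
    exact hd.mul_right _)⟩

theorem SylIn.trans {S V U : Subgroup G} (h : SylIn p S V) (hVU : V ≤ U)
    (hd : ¬ p ∣ V.relIndex U) : SylIn p S U :=
  ⟨h.le.trans hVU, h.pg, fun hd' => by
    rw [← Subgroup.relIndex_mul_relIndex _ _ _ h.le hVU] at hd'
    rcases (Nat.Prime.dvd_mul hp.out).1 hd' with h1 | h1
    · exact h.ndvd h1
    · exact hd h1⟩

/-- `P = L S`. -/
theorem SM.sup_eq {L P U S : Subgroup G} (h : SM p L P U) (hSP : S ≤ P) (hS : SylIn p S U) :
    L ⊔ S = P := by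
  apply le_antisymm (sup_le h.le hSP)
  rw [← Subgroup.relIndex_eq_one]
  obtain ⟨k, hk⟩ := h.pow
  have h1 : (L ⊔ S).relIndex P ∣ p ^ k := by
    rw [← hk]
    exact Subgroup.relIndex_dvd_of_le_left _ le_sup_left
  have h2 : (L ⊔ S).relIndex P ∣ S.relIndex P := Subgroup.relIndex_dvd_of_le_left _ le_sup_right
  have h3 : S.relIndex P ∣ S.relIndex U := by
    rw [← Subgroup.relIndex_mul_relIndex _ _ _ hSP h.le']
    exact dvd_mul_right _ _
  obtain ⟨j, -, hj⟩ := (Nat.dvd_prime_pow hp.out).1 h1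
  rcases Nat.eq_zero_or_pos j with h0 | h0
  · rw [hj, h0, pow_zero]
  · exfalso
    apply hS.ndvd
    exact ((dvd_pow_self p h0.ne').trans (hj ▸ h2)).trans h3

theorem SM.exists_syl {L P U : Subgroup G} (h : SM p L P U) :
    ∃ S, S ≤ P ∧ SylIn p S U ∧ L ⊔ S = P := by
  obtain ⟨S, hS⟩ := exists_sylIn (p := p) P
  have h1 := hS.trans h.le' h.ndvd
  exact ⟨S, hS.le, h1, h.sup_eq hS.le h1⟩

theorem SylIn.sm {L U S : Subgroup G} (h : SylIn p S U) (hLU : L ≤ U)
    (hU : U ≤ Subgroup.normalizer (L : Set G)) : SM p L (L ⊔ S) U := by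
  refine ⟨le_sup_left, sup_le hLU h.le, ?_, ?_⟩
  · rw [relIndex_sup_of_le_normalizer (h.le.trans hU)]
    obtain ⟨k, hk⟩ := IsPGroup.iff_card.1 h.pg
    have h1 : L.relIndex S ∣ p ^ k := by
      rw [← hk]; exact Subgroup.relIndex_dvd_card _ _
    obtain ⟨j, -, hj⟩ := (Nat.dvd_prime_pow hp.out).1 h1
    exact ⟨j, hj⟩
  · intro hd
    exact h.ndvd (hd.trans (Subgroup.relIndex_dvd_of_le_left _ le_sup_right))

theorem SM.conj {L P P' U : Subgroup G} (h : SM p L P U) (h' : SM p L P' U)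
    (hU : U ≤ Subgroup.normalizer (L : Set G)) :
    ∃ u ∈ U, P.map (MulAut.conj u).toMonoidHom = P' := by
  obtain ⟨S, hSP, hS, hLS⟩ := h.exists_syl
  obtain ⟨S', hSP', hS', hLS'⟩ := h'.exists_syl
  obtain ⟨u, hu, hu'⟩ := hS.conj hS'
  refine ⟨u, hu, ?_⟩
  rw [← hLS, ← hLS', Subgroup.map_sup, hu', map_conj_eq_of_mem (hU hu)]

theorem SM.of_le {L P U V : Subgroup G} (h : SM p L P U) (hPV : P ≤ V) (hVU : V ≤ U) :
    SM p L P V :=
  ⟨h.le, hPV, h.pow, fun hd => h.ndvd (by
    rw [← Subgroup.relIndex_mul_relIndex _ _ _ hPV hVU]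
    exact hd.mul_right _)⟩

/-- a subgroup of index prime to `p` contains a Sylow subgroup modulo `L` -/
theorem exists_sm {L U V : Subgroup G} (hLV : L ≤ V) (hVU : V ≤ U)
    (hU : U ≤ Subgroup.normalizer (L : Set G)) (hd : ¬ p ∣ V.relIndex U) :
    ∃ P ≤ V, SM p L P U := by
  obtain ⟨S, hS⟩ := exists_sylIn (p := p) V
  have h1 := hS.trans hVU hd
  exact ⟨L ⊔ S, sup_le hLV hS.le, h1.sm (hLV.trans hVU) hU⟩

theorem SM.map_conj {L P U : Subgroup G} (h : SM p L P U) {u : G} (hu : u ∈ U)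
    (hL : u ∈ Subgroup.normalizer (L : Set G)) :
    SM p L (P.map (MulAut.conj u).toMonoidHom) U := by
  have hUU : U.map (MulAut.conj u).toMonoidHom = U :=
    map_conj_eq_of_mem (Subgroup.le_normalizer hu)
  have hLL := map_conj_eq_of_mem hL
  have hinj : Function.Injective (MulAut.conj u).toMonoidHom := (MulAut.conj u).injective
  refine ⟨?_, ?_, ?_, ?_⟩
  · conv_lhs => rw [← hLL]
    exact Subgroup.map_mono h.le
  · conv_rhs => rw [← hUU]
    exact Subgroup.map_mono h.le'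
  · obtain ⟨k, hk⟩ := h.pow
    refine ⟨k, ?_⟩
    rw [← hk]
    conv_lhs => rw [← hLL]
    exact Subgroup.relIndex_map_map_of_injective _ _ hinj
  · have h1 : (P.map (MulAut.conj u).toMonoidHom).relIndex U = P.relIndex U := by
      conv_lhs => rw [← hUU]
      exact Subgroup.relIndex_map_map_of_injective _ _ hinj
    rw [h1]
    exact h.ndvd

/-- if `P` is contained in a subgroup of `U` in which it is Sylow modulo `K ≥ L`. -/
theorem SM.sup {L K P U : Subgroup G} (h : SM p L P U) (hLK : L ≤ K) (hKU : K ≤ U)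
    (hU : U ≤ Subgroup.normalizer (K : Set G)) : SM p K (K ⊔ P) U := by
  obtain ⟨S, hSP, hS, hLS⟩ := h.exists_syl
  have e : K ⊔ P = K ⊔ S := by
    rw [← hLS, ← sup_assoc, sup_eq_left.2 hLK]
  rw [e]
  exact hS.sm hKU hU

end Cfsg.Agent.H672.RM
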