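import Mathlib
import Cfsg.Agent.H672.RM.Cliff
import Cfsg.Agent.H672.RM.SM
set_option linter.all false

/-!
# Characters of degree prime to `p` and Sylow-invariant constituents
-/

set_option autoImplicit false
set_option linter.style.haveILetI false
set_option linter.unusedSectionVars false
open Cfsg

namespace Cfsg.Agent.H672.RM

open Cfsg.Agent.Characters.Core Cfsg.Agent.Characters.Clifford Cfsg.Agent.H672
open scoped ComplexConjugate

universe u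

variable {G : Type u} [Group G] [Finite G] {p : ℕ} [hp : Fact p.Prime]

/-- A character of degree prime to `p` lies over a Sylow-invariant character. -/
theorem exists_inv_under {K R V : Subgroup G} (hKV : K ≤ V)
    (hV : V ≤ Subgroup.normalizer (K : Set G)) (hR : SM p K R V) {ψ : V → ℂ}
    (hψ : IsIrrCharacter V ψ) (hd : ¬ p ∣ charDegree ψ) :
    ∃ ξ : K → ℂ, IsIrrCharacter K ξ ∧ R ≤ stab ξ ∧ Over (Subgroup.inclusion hKV) ψ ξ := by
  obtain ⟨ξ₀, hξ₀, h0⟩ := exists_under (f := Subgroup.inclusion hKV) hψ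
  have h1 := dvd_of_over hKV hV hψ hξ₀ h0
  have h2 : ¬ p ∣ (V ⊓ stab ξ₀).relIndex V := by
    rw [inf_comm, Subgroup.inf_relIndex_right]
    exact fun h => hd ((h.mul_right _).trans h1)
  obtain ⟨R₀, hR₀, hR₀'⟩ := exists_sm (p := p) (le_inf hKV (le_stab (isIrr_isClassFunction hξ₀)))
    inf_le_left hV h2
  obtain ⟨u, hu, hu'⟩ := hR₀'.conj hR hV
  have hun : u⁻¹ ∈ Subgroup.normalizer (K : Set G) := Subgroup.inv_mem _ (hV hu)
  refine ⟨tw K u⁻¹ ξ₀, isIrr_tw hun hξ₀, ?_, ?_⟩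
  · intro x hx
    rw [← hu'] at hx
    obtain ⟨y, hy, rfl⟩ := hx
    rw [mem_stab_tw hun]
    have h3 := (hR₀ hy).2
    have e : u⁻¹ * (MulAut.conj u).toMonoidHom y * u⁻¹⁻¹ = y := by
      change u⁻¹ * (u * y * u⁻¹) * u⁻¹⁻¹ = y
      group
    rwa [e]
  · exact (over_tw hKV hV (isIrr_isClassFunction hψ) (V.inv_mem hu)).2 h0

/-- The Sylow-invariant characters below a character are conjugate in the normalizer. -/
theorem exists_tw_of_inv {K R V : Subgroup G} (hKV : K ≤ V)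
    (hV : V ≤ Subgroup.normalizer (K : Set G)) (hR : SM p K R V) {ψ : V → ℂ}
    (hψ : IsIrrCharacter V ψ) {ξ ξ' : K → ℂ} (hξ : IsIrrCharacter K ξ) (hξ' : IsIrrCharacter K ξ')
    (h1 : R ≤ stab ξ) (h1' : R ≤ stab ξ') (h2 : Over (Subgroup.inclusion hKV) ψ ξ)
    (h2' : Over (Subgroup.inclusion hKV) ψ ξ') :
    ∃ h ∈ V ⊓ Subgroup.normalizer (R : Set G), ξ' = tw K h ξ := by
  obtain ⟨g, hg, hgξ⟩ := exists_tw_of_over hKV hV hψ hξ hξ' h2 h2'
  have hgK := hV hg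
  have hR1 : SM p K R (V ⊓ stab ξ) := hR.of_le (le_inf hR.le' h1) inf_le_left
  have h3 : R.map (MulAut.conj g).toMonoidHom ≤ V ⊓ stab ξ := by
    rintro _ ⟨y, hy, rfl⟩
    refine ⟨V.mul_mem (V.mul_mem hg (hR.le' hy)) (V.inv_mem hg), ?_⟩
    have h4 := h1' hy
    rw [hgξ, mem_stab_tw hgK] at h4
    exact h4
  have hR2 : SM p K (R.map (MulAut.conj g).toMonoidHom) (V ⊓ stab ξ) :=
    (hR.map_conj hg hgK).of_le h3 inf_le_left
  obtain ⟨t, ht, ht'⟩ := hR2.conj hR1 (inf_le_left.trans hV)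
  refine ⟨t * g, ⟨V.mul_mem ht.1 hg, ?_⟩, ?_⟩
  · apply mem_normalizer_of_map_conj
    conv_rhs => rw [← ht']
    rw [Subgroup.map_map]
    congr 1
    ext x
    simp
  · rw [tw_mul ht.2.1 hgK, ht.2.2, hgξ]

/-- characters over two levels, the lower one invariant. -/
theorem over_mid {L K V : Subgroup G} (hLK : L ≤ K) (hKV : K ≤ V)
    (hV : V ≤ Subgroup.normalizer (L : Set G)) {ψ : V → ℂ} (hψ : IsIrrCharacter V ψ)
    {ν : L → ℂ} (hν : IsIrrCharacter L ν) (hνV : V ≤ stab ν) {ξ : K → ℂ} (hξ : IsIrrCharacter K ξ)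
    (h1 : Over (Subgroup.inclusion hKV) ψ ξ) :
    Over (Subgroup.inclusion hLK) ξ ν ↔ Over (Subgroup.inclusion (hLK.trans hKV)) ψ ν := by
  have e : Subgroup.inclusion (hLK.trans hKV) =
      (Subgroup.inclusion hKV).comp (Subgroup.inclusion hLK) := rfl
  constructor
  · intro h
    rw [e]
    exact (over_comp_iff _ _ (isIrr_isCharacter hψ) hν).2 ⟨ξ, hξ, h1, h⟩
  · intro h
    obtain ⟨ν', hν', h2⟩ := exists_under (f := Subgroup.inclusion hLK) hξ
    have h3 : Over (Subgroup.inclusion (hLK.trans hKV)) ψ ν' := by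
      rw [e]
      exact (over_comp_iff _ _ (isIrr_isCharacter hψ) hν').2 ⟨ξ, hξ, h1, h2⟩
    obtain ⟨g, hg, hgν⟩ := exists_tw_of_over (hLK.trans hKV) hV hψ hν hν' h h3
    rw [(hνV hg).2] at hgν
    rwa [← hgν]

/-- **Reduction step.** -/
theorem stepA {L K R U : Subgroup G} (hLK : L ≤ K) (hKU : K ≤ U)
    (hUL : U ≤ Subgroup.normalizer (L : Set G)) (hUK : U ≤ Subgroup.normalizer (K : Set G))
    (hR : SM p K R U) (hH : K ≤ U ⊓ Subgroup.normalizer (R : Set G))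
    {ν : L → ℂ} (hν : IsIrrCharacter L ν) (hνU : U ≤ stab ν)
    (hcount : ∀ ξ : K → ℂ, IsIrrCharacter K ξ → R ≤ stab ξ →
      Cnt p (Subgroup.inclusion hKU) ξ = Cnt p (Subgroup.inclusion hH) ξ) :
    Cnt p (Subgroup.inclusion (hLK.trans hKU)) ν = Cnt p (Subgroup.inclusion (hLK.trans hH)) ν := by
  classical
  set H := U ⊓ Subgroup.normalizer (R : Set G) with hHdef
  have hHU : H ≤ U := inf_le_left
  have hRH : SM p K R H := hR.of_le (le_inf hR.le' Subgroup.le_normalizer) hHU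
  haveI := finite_irr (G := K)
  haveI := finite_irr (G := U)
  haveI := finite_irr (G := H)
  let X := {ξ : IrrCharacter K // R ≤ stab (ξ : K → ℂ) ∧ Over (Subgroup.inclusion hLK) (ξ : K → ℂ) ν}
  let r : Setoid X :=
    { r := fun x y => ∃ h ∈ H, (y.1 : K → ℂ) = tw K h (x.1 : K → ℂ)
      iseqv := by
        refine ⟨fun x => ⟨1, H.one_mem, (tw_one _).symm⟩, ?_, ?_⟩
        · rintro x y ⟨h, hh, e⟩
          refine ⟨h⁻¹, H.inv_mem hh, ?_⟩
          rw [e, ← tw_mul (hUK (hHU hh)) (Subgroup.inv_mem _ (hUK (hHU hh))), mul_inv_cancel, tw_one]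
        · rintro x y z ⟨h, hh, e⟩ ⟨h', hh', e'⟩
          refine ⟨h * h', H.mul_mem hh hh', ?_⟩
          rw [e', e, tw_mul (hUK (hHU hh)) (hUK (hHU hh'))] }
  have key : ∀ (V : Subgroup G) (hKV : K ≤ V) (hVU : V ≤ U) (hHV : H ≤ V) (hRV : SM p K R V),
      (∀ a : {χ : IrrCharacter V // ¬ p ∣ charDegree (χ : V → ℂ) ∧
        Over (Subgroup.inclusion (hLK.trans hKV)) (χ : V → ℂ) ν}, ∃ x : X,
        Over (Subgroup.inclusion hKV) (a.1 : V → ℂ) (x.1 : K → ℂ)) ∧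
      (∀ (a : {χ : IrrCharacter V // ¬ p ∣ charDegree (χ : V → ℂ) ∧
        Over (Subgroup.inclusion (hLK.trans hKV)) (χ : V → ℂ) ν}) (x y : X),
        Over (Subgroup.inclusion hKV) (a.1 : V → ℂ) (x.1 : K → ℂ) →
        (Over (Subgroup.inclusion hKV) (a.1 : V → ℂ) (y.1 : K → ℂ) ↔ r x y)) ∧
      (∀ x : X, Nat.card {a : {χ : IrrCharacter V // ¬ p ∣ charDegree (χ : V → ℂ) ∧
        Over (Subgroup.inclusion (hLK.trans hKV)) (χ : V → ℂ) ν} //
        Over (Subgroup.inclusion hKV) (a.1 : V → ℂ) (x.1 : K → ℂ)} =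
        Cnt p (Subgroup.inclusion hKV) (x.1 : K → ℂ)) := by
    intro V hKV hVU hHV hRV
    have hVK := hVU.trans hUK
    have hVL := hVU.trans hUL
    refine ⟨?_, ?_, ?_⟩
    · rintro ⟨χ, h1, h2⟩
      obtain ⟨ξ, hξ, h3, h4⟩ := exists_inv_under hKV hVK hRV χ.2 h1
      exact ⟨⟨⟨ξ, hξ⟩, h3, (over_mid hLK hKV hVL χ.2 hν (hVU.trans hνU) hξ h4).2 h2⟩, h4⟩
    · rintro ⟨χ, h1, h2⟩ x y hx
      constructor
      · intro hy
        obtain ⟨h, hh, e⟩ := exists_tw_of_inv hKV hVK hRV χ.2 x.1.2 y.1.2 x.2.1 y.2.1 hx hy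
        exact ⟨h, ⟨hVU hh.1, hh.2⟩, e⟩
      · rintro ⟨h, hh, e⟩
        rw [e]
        exact (over_tw hKV hVK (isIrr_isClassFunction χ.2) (hHV hh)).2 hx
    · intro x
      refine Nat.card_congr ⟨fun a => ⟨a.1.1, a.1.2.1, a.2⟩, fun a => ⟨⟨a.1, a.2.1, ?_⟩, a.2.2⟩,
        fun a => rfl, fun a => rfl⟩
      exact (over_mid hLK hKV hVL a.1.2 hν (hVU.trans hνU) x.1.2 a.2.2).1 x.2.2
  obtain ⟨hA1, hA2, hA3⟩ := key U hKU le_rfl hHU hR
  obtain ⟨hB1, hB2, hB3⟩ := key H hH hHU le_rfl hRH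
  refine card_eq_of_fibers r _ _ hA1 hB1 hA2 hB2 ?_
  intro x
  rw [hA3, hB3]
  exact hcount _ x.1.2 x.2.1

end Cfsg.Agent.H672.RM
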