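import Mathlib
import Cfsg.Agent.H672.RM.Triple
import Cfsg.Agent.Lib.PSolvable
set_option linter.all false

/-!
# Character triples: the lattice of subgroups
-/

set_option autoImplicit false
set_option linter.style.haveILetI false
set_option linter.unusedSectionVars false
open Cfsg

namespace Cfsg.Agent.H672.RM

open Cfsg.Agent.Characters.Core Cfsg.Agent.Characters.Clifford Cfsg.Agent.H672
open Cfsg.Agent.H595.Triple Cfsg.Agent.H595.Central
open scoped ComplexConjugate

universe u

/-- The data of a character triple isomorphism from `(Γ, N, θ)` to `(Q, Z, l)`. -/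
structure Iso (p : ℕ) {Γ Δ Q : Type u} [Group Γ] [Group Δ] [Group Q] [Finite Γ] [Finite Q]
    (N : Subgroup Γ) (θ : N → ℂ) (π : Δ →* Γ) (m : Δ →* Q) (Z : Subgroup Q) (l : Z →* ℂˣ) :
    Prop where
  surjπ : Function.Surjective π
  surjm : Function.Surjective m
  comap : N.comap π = Z.comap m
  cen : Z ≤ Subgroup.center Q
  psol : IsPSolvable p Γ → IsPSolvable p Q
  cnt : ∀ (V : Subgroup Γ) (V' : Subgroup Q) (hNV : N ≤ V) (hZV : Z ≤ V'),
    V.comap π = V'.comap m →
      Cnt p (Subgroup.inclusion hNV) θ = Cnt p (Subgroup.inclusion hZV) (lf l)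

theorem exists_iso {p : ℕ} [hp : Fact p.Prime] {Γ : Type u} [Group Γ] [Finite Γ] (N : Subgroup Γ)
    [hN : N.Normal] {θ : N → ℂ} (hθ : IsIrrCharacter N θ) (hinv : ∀ g : Γ, g ∈ stab θ)
    (hd : ¬ p ∣ charDegree θ) :
    ∃ (Δ Q : Type u) (_ : Group Δ) (_ : Group Q) (_ : Finite Q) (π : Δ →* Γ) (m : Δ →* Q)
      (Z : Subgroup Q) (l : Z →* ℂˣ), Iso p N θ π m Z l := by
  classical
  have hinv' : Cfsg.Agent.H595.Count.CInv N θ := by
    intro g n
    have h1 := (hinv g).2
    conv_rhs => rw [← h1]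
    exact (tw_apply' (hinv g).1 θ n _ rfl).symm
  obtain ⟨Δ, hΔ, hΔf, π, s, χR, h⟩ := exists_cov N ⟨θ, hθ⟩ hinv'
  have hLn := h.normal
  have hsec : ∀ n, π (s n) = n := h.section_
  let m : Δ →* Δ ⧸ s.range := QuotientGroup.mk' s.range
  have hm : Function.Surjective m := QuotientGroup.mk'_surjective _
  have hkm : m.ker = s.range := QuotientGroup.ker_mk' _
  let Z : Subgroup (Δ ⧸ s.range) := π.ker.map m
  have hZcomap : N.comap π = Z.comap m := by
    rw [Subgroup.comap_map_eq, hkm]
    apply le_antisymm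
    · intro x hx
      obtain ⟨n, z, hz, rfl⟩ := h.comap_eq x hx
      exact mul_mem (Subgroup.mem_sup_right ⟨n, rfl⟩) (Subgroup.mem_sup_left hz)
    · refine sup_le (fun x hx => ?_) ?_
      · show π x ∈ N
        rw [MonoidHom.mem_ker.1 hx]
        exact one_mem N
      · rintro _ ⟨n, rfl⟩
        show π (s n) ∈ N
        rw [hsec]
        exact n.2
  have hZc : Z ≤ Subgroup.center (Δ ⧸ s.range) := by
    rintro _ ⟨z, hz, rfl⟩
    rw [Subgroup.mem_center_iff]
    intro q
    obtain ⟨x, rfl⟩ := hm q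
    rw [← map_mul, ← map_mul, Subgroup.mem_center_iff.1 (h.ker_le hz) x]
  obtain ⟨c, hc, -⟩ := Cfsg.Agent.CharactersDeep.Extraspecial.exists_central_hom h.irr
  let c' : π.ker →* ℂˣ := c.comp (Subgroup.inclusion h.ker_le)
  have hc' : ∀ (x : Δ) (z : π.ker), χR (x * z) = χR x * c' z := fun x z =>
    hc x (Subgroup.inclusion h.ker_le z)
  let f : π.ker →* Z := (m.comp π.ker.subtype).codRestrict Z (fun z => ⟨z, z.2, rfl⟩)
  have hfb : Function.Bijective f := by
    constructor
    · rw [injective_iff_map_eq_one]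
      intro z hz
      have h1 : m (z : Δ) = 1 := congrArg (fun y : Z => (y : Δ ⧸ s.range)) hz
      have h2 : (z : Δ) ∈ s.range := (QuotientGroup.eq_one_iff _).1 h1
      exact Subtype.ext (h.disj (MonoidHom.mem_ker.1 z.2) h2)
    · rintro ⟨_, z, hz, rfl⟩
      exact ⟨⟨z, hz⟩, rfl⟩
  let e : π.ker ≃* Z := MulEquiv.ofBijective f hfb
  let l : Z →* ℂˣ := (c'⁻¹).comp e.symm.toMonoidHom
  have hl : ∀ z : π.ker, l (e z) = (c' z)⁻¹ := by
    intro z
    show (c'⁻¹) (e.symm (e z)) = _
    rw [e.symm_apply_apply]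
    rfl
  refine ⟨Δ, Δ ⧸ s.range, inferInstance, inferInstance, inferInstance, π, m, Z, l,
    ⟨h.surj, hm, hZcomap, hZc, ?_, ?_⟩⟩
  · intro hps
    haveI : Group.IsSolvable π.ker := Group.isSolvable_of_comm (fun a b => Subtype.ext
        (Subgroup.mem_center_iff.1 (h.ker_le b.2) (a : Δ)))
    have h1 : IsPSolvable p (Δ ⧸ π.ker) :=
      Cfsg.Agent.Lib.PSolvable.IsPSolvable_of_injective p hps (QuotientGroup.kerLift π)
        (QuotientGroup.kerLift_injective π)
    have h2 : IsPSolvable p Δ := Cfsg.Agent.Lib.PSolvable.IsPSolvable_of_extension p π.ker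
      (Cfsg.Agent.Lib.PSolvable.IsPSolvable_of_solvable p) h1
    exact Cfsg.Agent.Lib.PSolvable.IsPSolvable_of_surjective p h2 m hm
  · intro V V' hNV hZV hVV
    let W : Subgroup Δ := V.comap π
    have hW' : ∀ x : W, m x ∈ V' := fun x => by
      have : (x : Δ) ∈ V'.comap m := hVV ▸ x.2
      exact this
    let πW : W →* V := (π.comp W.subtype).codRestrict V (fun x => x.2)
    let mW : W →* V' := (m.comp W.subtype).codRestrict V' hW'
    let sW : N →* W := s.codRestrict W (fun n => by
      show π (s n) ∈ V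
      rw [hsec]
      exact hNV n.2)
    have hkerW : ∀ z : πW.ker, π ((z : W) : Δ) = 1 := fun z =>
      congrArg Subtype.val (MonoidHom.mem_ker.1 z.2)
    let κ : πW.ker →* π.ker := (W.subtype.comp πW.ker.subtype).codRestrict π.ker hkerW
    let cW : πW.ker →* ℂˣ := c'.comp κ
    have hirrW : IsIrrCharacter W (fun x : W => χR x) := by
      refine isIrr_of_comp sW (isCharacter_comp W.subtype (isIrr_isCharacter h.irr)) ?_
      have : (fun x : W => χR x) ∘ sW = θ := funext h.ext
      rw [this]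
      exact hθ
    have hTS : TSet πW mW sW (fun x : W => χR x) θ cW := by
      refine ⟨?_, ?_, ?_, ?_, ?_, hirrW, hθ, h.ext, fun x z => hc' x (κ z)⟩
      · rintro ⟨v, hv⟩
        obtain ⟨x, rfl⟩ := h.surj v
        exact ⟨⟨x, hv⟩, rfl⟩
      · rintro ⟨v, hv⟩
        obtain ⟨x, rfl⟩ := hm v
        have hx : x ∈ W := by
          show x ∈ V.comap π
          rw [hVV]; exact hv
        exact ⟨⟨x, hx⟩, rfl⟩
      · intro a b hab
        have h1 : s a = s b := congrArg Subtype.val hab
        have h2 := congrArg π h1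
        rw [hsec, hsec] at h2
        exact Subtype.ext h2
      · ext x
        rw [MonoidHom.mem_range, MonoidHom.mem_ker]
        constructor
        · rintro ⟨n, rfl⟩
          apply Subtype.ext
          exact (QuotientGroup.eq_one_iff _).2 ⟨n, rfl⟩
        · intro hx
          have h1 : m (x : Δ) = 1 := congrArg Subtype.val hx
          obtain ⟨n, hn⟩ := (QuotientGroup.eq_one_iff _).1 h1
          exact ⟨n, Subtype.ext hn⟩
      · intro z hz
        rw [Subgroup.mem_center_iff]
        intro g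
        apply Subtype.ext
        have h1 : (z : Δ) ∈ π.ker := congrArg Subtype.val (MonoidHom.mem_ker.1 hz)
        exact Subgroup.mem_center_iff.1 (h.ker_le h1) (g : Δ)
    have h3 := hTS.cnt_eq hp.out hd
    have e1 : πW.comp sW = Subgroup.inclusion hNV := by
      ext n
      exact hsec n
    rw [e1] at h3
    rw [h3]
    have hκ : Function.Bijective κ := by
      constructor
      · intro a b hab
        have h6 : ((κ a : π.ker) : Δ) = κ b := congrArg Subtype.val hab
        exact Subtype.ext (Subtype.ext h6)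
      · intro z
        have h4 : (z : Δ) ∈ W := by
          show π z ∈ V
          rw [MonoidHom.mem_ker.1 z.2]
          exact one_mem V
        have h5 : (⟨(z : Δ), h4⟩ : W) ∈ πW.ker := by
          rw [MonoidHom.mem_ker]
          exact Subtype.ext (MonoidHom.mem_ker.1 z.2)
        exact ⟨⟨⟨z, h4⟩, h5⟩, rfl⟩
    refine cnt_congr p (MulEquiv.refl V') ((MulEquiv.ofBijective κ hκ).trans e) _ _ ?_ _ _ ?_
    · intro z
      rfl
    · intro z
      change ((l (e (κ z)) : ℂˣ) : ℂ) = ((cW⁻¹ z : ℂˣ) : ℂ)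
      rw [hl]
      rfl

end Cfsg.Agent.H672.RM
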