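import Mathlib
import Cfsg.Agent.H672.RM.Triple2
set_option linter.all false

/-!
# Relative McKay for `p`-solvable groups: reduction to the central case
-/

set_option autoImplicit false
set_option linter.style.haveILetI false
set_option linter.unusedSectionVars false
open Cfsg

namespace Cfsg.Agent.H672.RM

open Cfsg.Agent.Characters.Core Cfsg.Agent.Characters.Clifford Cfsg.Agent.H672
open scoped ComplexConjugate

universe u

/-- The central case. -/
def CentralCase (p : ℕ) : Prop :=
  ∀ (Q : Type u) [Group Q] [Finite Q] (Z K S : Subgroup Q), Z ≤ Subgroup.center Q → K.Normal →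
    Z ≤ K → ¬ p ∣ Z.relIndex K → SylIn p S ⊤ → (K ⊔ S).Normal → ∀ (l : Z →* ℂˣ)
    (hZN : Z ≤ Subgroup.normalizer (S : Set Q)),
    Cnt p Z.subtype (lf l) = Cnt p (Subgroup.inclusion hZN) (lf l)

variable {p : ℕ} [hp : Fact p.Prime]

/-- The statement of the relative McKay theorem. -/
def Rel (p n : ℕ) : Prop :=
  ∀ (G : Type u) [Group G] [Finite G], IsPSolvable p G → ∀ (L P U : Subgroup G),
    U ≤ Subgroup.normalizer (L : Set G) → SM p L P U → ∀ (ν : L → ℂ), IsIrrCharacter L ν →
    P ≤ stab ν → L.relIndex U = n → ∀ (hLU : L ≤ U) (hLN : L ≤ U ⊓ Subgroup.normalizer (P : Set G)),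
    Cnt p (Subgroup.inclusion hLU) ν = Cnt p (Subgroup.inclusion hLN) ν

section

variable {G : Type u} [Group G] [Finite G]

theorem rne (H K : Subgroup G) : H.relIndex K ≠ 0 :=
  Subgroup.index_ne_zero_of_finite (H := H.subgroupOf K)

theorem relIndex_lt_of_lt {L V U : Subgroup G} (hLV : L ≤ V) (hVU : V < U) :
    L.relIndex V < L.relIndex U := by
  have h1 := Subgroup.relIndex_mul_relIndex _ _ _ hLV hVU.le
  rw [← h1]
  have h2 : V.relIndex U ≠ 0 := rne _ _
  have h3 : V.relIndex U ≠ 1 := fun h => hVU.not_ge (Subgroup.relIndex_eq_one.1 h)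
  have h4 : L.relIndex V ≠ 0 := rne _ _
  have h5 : 2 ≤ V.relIndex U := by omega
  calc L.relIndex V < L.relIndex V * 2 := by omega
    _ ≤ L.relIndex V * V.relIndex U := Nat.mul_le_mul le_rfl h5

theorem relIndex_lt_of_lt_left {L K U : Subgroup G} (hLK : L < K) (hKU : K ≤ U) :
    K.relIndex U < L.relIndex U := by
  have h1 := Subgroup.relIndex_mul_relIndex _ _ _ hLK.le hKU
  rw [← h1]
  have h2 : L.relIndex K ≠ 0 := rne _ _
  have h3 : L.relIndex K ≠ 1 := fun h => hLK.not_ge (Subgroup.relIndex_eq_one.1 h)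
  have h4 : K.relIndex U ≠ 0 := rne _ _
  have h5 : 2 ≤ L.relIndex K := by omega
  calc K.relIndex U < 2 * K.relIndex U := by omega
    _ ≤ L.relIndex K * K.relIndex U := Nat.mul_le_mul h5 le_rfl

theorem stab_lf_of_central {Z : Subgroup G} (hZ : Z ≤ Subgroup.center G) (l : Z →* ℂˣ) (g : G) :
    g ∈ stab (lf l : Z → ℂ) := by
  have hg : g ∈ Subgroup.normalizer (Z : Set G) := by
    rw [Subgroup.mem_normalizer_iff]
    intro x
    constructor
    · intro hx
      have := Subgroup.mem_center_iff.1 (hZ hx) g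
      rw [this, mul_inv_cancel_right]; exact hx
    · intro hx
      have := Subgroup.mem_center_iff.1 (hZ hx) g
      have h2 : x = g * x * g⁻¹ := by
        have h3 : g * (g * x * g⁻¹) = g * x * g⁻¹ * g := this
        have h4 : g * x * g⁻¹ * g = g * x := by group
        rw [h4] at h3
        exact (mul_left_cancel h3).symm
      rw [h2]; exact hx
  refine ⟨hg, ?_⟩
  funext x
  refine tw_apply' hg _ _ _ ?_
  have := Subgroup.mem_center_iff.1 (hZ x.2) g
  rw [this, mul_inv_cancel_right]

theorem normalizer_sup_le {K P : Subgroup G} [K.Normal] :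
    Subgroup.normalizer (P : Set G) ≤ Subgroup.normalizer ((K ⊔ P : Subgroup G) : Set G) := by
  intro g hg
  apply mem_normalizer_of_map_conj
  rw [Subgroup.map_sup, map_conj_eq_of_mem hg,
    map_conj_eq_of_mem (u := g) (L := K) (by rw [Subgroup.normalizer_eq_top]; trivial)]

theorem cnt_top {V : Subgroup G} (hV : V = ⊤) {L : Subgroup G} (hLV : L ≤ V) (θ : L → ℂ) :
    Cnt p (Subgroup.inclusion hLV) θ = Cnt p L.subtype θ := by
  subst hV
  exact cnt_congr p Subgroup.topEquiv (MulEquiv.refl L) _ _ (fun _ => rfl) _ _ (fun _ => rfl)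

/-- `N(S) = N(P)` when `P = Z S` with `Z` central. -/
theorem normalizer_eq_of_central {Z S : Subgroup G} (hZ : Z ≤ Subgroup.center G)
    (hS : SylIn p S ⊤) : Subgroup.normalizer (S : Set G) =
      Subgroup.normalizer ((Z ⊔ S : Subgroup G) : Set G) := by
  haveI : Z.Normal := ⟨fun n hn g => by
    rw [Subgroup.mem_center_iff.1 (hZ hn) g, mul_inv_cancel_right]; exact hn⟩
  apply le_antisymm normalizer_sup_le
  intro g hg
  apply mem_normalizer_of_map_conj
  have h1 : SylIn p (S.map (MulAut.conj g).toMonoidHom) ⊤ := by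
    refine ⟨le_top, hS.pg.map _, ?_⟩
    have h2 := hS.ndvd
    rw [Subgroup.relIndex_top_right] at h2 ⊢
    have h3 := Subgroup.index_map_equiv S (MulAut.conj g)
    change ¬ p ∣ (S.map ((MulAut.conj g : G ≃* G) : G →* G)).index
    rwa [h3]
  have h3 : S.map (MulAut.conj g).toMonoidHom ≤ Z ⊔ S := by
    have h4 := map_conj_eq_of_mem hg
    rw [← h4]
    exact Subgroup.map_mono le_sup_right
  obtain ⟨t, ht, ht'⟩ := (hS.of_le le_sup_right le_top).conj (h1.of_le h3 le_top)
  have h5 : t ∈ Subgroup.normalizer (S : Set G) := by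
    have h6 : Z ⊔ S ≤ Subgroup.normalizer (S : Set G) := by
      refine sup_le ?_ Subgroup.le_normalizer
      exact hZ.trans (Subgroup.center_le_normalizer _)
    exact h6 ht
  rw [← ht', map_conj_eq_of_mem h5]

end

/-- The central case implies the case of a central `Z`, by induction. -/
theorem rel_central (hcen : CentralCase.{u} p) {n : ℕ} (ih : ∀ k < n, Rel.{u} p k)
    (Q : Type u) [Group Q] [Finite Q] (hQ : IsPSolvable p Q) (Z P : Subgroup Q)
    (hZ : Z ≤ Subgroup.center Q) (l : Z →* ℂˣ) (hP : SM p Z P ⊤) (hn : Z.index = n)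
    (hZN : Z ≤ Subgroup.normalizer (P : Set Q)) :
    Cnt p Z.subtype (lf l) = Cnt p (Subgroup.inclusion hZN) (lf l) := by
  haveI hZn : Z.Normal := ⟨fun n hn g => by
    rw [Subgroup.mem_center_iff.1 (hZ hn) g, mul_inv_cancel_right]; exact hn⟩
  by_cases hNP : Subgroup.normalizer (P : Set Q) = ⊤
  · exact (cnt_top hNP hZN _).symm
  by_cases hZt : Z = ⊤
  · exfalso
    apply hNP
    rw [eq_top_iff, ← hZt]
    exact hZN
  obtain ⟨K, hK, hZK, -, hpow⟩ := Cfsg.Agent.Lib.PSolvable.sep_of_pSolvable p hQ Z ⊤ hZn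
    inferInstance (lt_top_iff_ne_top.2 hZt)
  have hKn : (⊤ : Subgroup Q) ≤ Subgroup.normalizer (K : Set Q) := by
    rw [Subgroup.normalizer_eq_top]
  have hZn' : (⊤ : Subgroup Q) ≤ Subgroup.normalizer (Z : Set Q) := by
    rw [Subgroup.normalizer_eq_top]
  have hR : SM p K (K ⊔ P) ⊤ := hP.sup hZK.le le_top hKn
  have hKH : K ≤ ⊤ ⊓ Subgroup.normalizer ((K ⊔ P : Subgroup Q) : Set Q) :=
    le_inf le_top (le_sup_left.trans Subgroup.le_normalizer)
  have hlst : ∀ V : Subgroup Q, V ≤ stab (lf l : Z → ℂ) := fun V g _ => stab_lf_of_central hZ l g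
  have h1 := stepA (p := p) hZK.le (le_top : K ≤ ⊤) hZn' hKn hR hKH (isIrr_lf l) (hlst ⊤) (by
    intro ξ hξ hRξ
    exact ih (K.relIndex ⊤) (by
      rw [← hn, ← Subgroup.relIndex_top_right]
      exact relIndex_lt_of_lt_left hZK le_top) Q hQ K (K ⊔ P) ⊤ hKn hR ξ hξ hRξ rfl _ _)
  rw [cnt_top rfl] at h1
  rw [h1]
  have hNN : Subgroup.normalizer (P : Set Q) ≤
      Subgroup.normalizer ((K ⊔ P : Subgroup Q) : Set Q) := normalizer_sup_le
  by_cases hRt : Subgroup.normalizer ((K ⊔ P : Subgroup Q) : Set Q) = ⊤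
  · -- `K P` is normal
    have hRn : (K ⊔ P).Normal := Subgroup.normalizer_eq_top_iff.1 hRt
    rw [cnt_top (by rw [hRt, top_inf_eq])]
    rcases hpow with ⟨j, hj⟩ | hpow
    · exfalso
      apply hNP
      have h2 : (K ⊔ P) = P := by
        apply le_antisymm _ le_sup_right
        rw [← Subgroup.relIndex_eq_one]
        have h3 : P.relIndex (K ⊔ P) ∣ P.relIndex ⊤ := by
          rw [← Subgroup.relIndex_mul_relIndex _ _ _ (le_sup_right : P ≤ K ⊔ P) le_top]
          exact dvd_mul_right _ _
        have h4 : P.relIndex (K ⊔ P) ∣ p ^ j := by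
          have h5 : P.relIndex (K ⊔ P) = P.relIndex K := by
            have hPn : P.relIndex (K ⊔ P) = (P ⊓ K).relIndex K := by
              have e1 := Subgroup.relIndex_mul_relIndex (P ⊓ K) K (K ⊔ P) inf_le_right le_sup_left
              have e2 := Subgroup.relIndex_mul_relIndex (P ⊓ K) P (K ⊔ P) inf_le_left le_sup_right
              have e3 : K.relIndex (K ⊔ P) = (P ⊓ K).relIndex P := by
                rw [Subgroup.relIndex_sup_left, Subgroup.inf_relIndex_left]
              rw [e3] at e1
              have e4 : (P ⊓ K).relIndex P ≠ 0 := rne _ _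
              apply Nat.eq_of_mul_eq_mul_left (Nat.pos_of_ne_zero e4)
              rw [e2, ← e1, mul_comm]
            rw [hPn, Subgroup.inf_relIndex_right]
          rw [h5, ← hj]
          exact Subgroup.relIndex_dvd_of_le_left _ hP.le
        obtain ⟨i, -, hi⟩ := (Nat.dvd_prime_pow hp.out).1 h4
        rcases Nat.eq_zero_or_pos i with h0 | h0
        · rw [hi, h0, pow_zero]
        · exfalso
          exact hP.ndvd (((dvd_pow_self p h0.ne').trans (hi ▸ dvd_rfl)).trans h3)
      rw [← h2, hRt]
    · obtain ⟨S, hSP, hS, hZS⟩ := hP.exists_syl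
      have hNS : Subgroup.normalizer (S : Set Q) = Subgroup.normalizer (P : Set Q) := by
        rw [normalizer_eq_of_central hZ hS, hZS]
      have hKS : K ⊔ S = K ⊔ P := by
        rw [← hZS, ← sup_assoc, sup_eq_left.2 hZK.le]
      have hd : ¬ p ∣ Z.relIndex K := fun h => by
        have := Nat.Coprime.coprime_dvd_left h hpow
        rw [Nat.coprime_self] at this
        exact hp.out.one_lt.ne' this
      have hZN' : Z ≤ Subgroup.normalizer (S : Set Q) := hNS ▸ hZN
      rw [hcen Q Z K S hZ hK hZK.le hd hS (hKS ▸ hRn) l hZN']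
      exact cnt_eq_of_eq _ _ hNS _
  · -- induction in the normalizer
    have hlt : ⊤ ⊓ Subgroup.normalizer ((K ⊔ P : Subgroup Q) : Set Q) < ⊤ := by
      rw [top_inf_eq]
      exact lt_top_iff_ne_top.2 hRt
    have h2 := ih (Z.relIndex (⊤ ⊓ Subgroup.normalizer ((K ⊔ P : Subgroup Q) : Set Q))) (by
      rw [← hn, ← Subgroup.relIndex_top_right]
      exact relIndex_lt_of_lt (hZK.le.trans hKH) hlt) Q hQ Z P
      (⊤ ⊓ Subgroup.normalizer ((K ⊔ P : Subgroup Q) : Set Q)) (le_top.trans hZn')
      (hP.of_le (le_inf le_top (Subgroup.le_normalizer.trans hNN)) le_top) (lf l) (isIrr_lf l)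
      (hlst P) rfl (hZK.le.trans hKH) (le_inf (hZK.le.trans hKH) hZN)
    rw [h2]
    refine cnt_eq_of_eq _ _ ?_ _
    rw [top_inf_eq]
    exact inf_eq_right.2 hNN

theorem sub_mono {G : Type u} [Group G] {L V U : Subgroup G} (hLV : L ≤ V) :
    L.subgroupOf U ≤ V.subgroupOf U := Subgroup.comap_mono hLV

theorem cnt_amb {G : Type u} [Group G] [Finite G] {L V U : Subgroup G} (hLV : L ≤ V) (hVU : V ≤ U)
    (ν : L → ℂ) : Cnt p (Subgroup.inclusion hLV) ν =
      Cnt p (Subgroup.inclusion (sub_mono (U := U) hLV))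
        (ν ∘ Subgroup.subgroupOfEquivOfLe (hLV.trans hVU)) :=
  (cnt_congr p (Subgroup.subgroupOfEquivOfLe hVU) (Subgroup.subgroupOfEquivOfLe (hLV.trans hVU))
    _ _ (fun _ => rfl) _ _ (fun _ => rfl)).symm

theorem rel (hcen : CentralCase.{u} p) (n : ℕ) : Rel.{u} p n := by
  induction n using Nat.strong_induction_on with
  | _ n ih =>
  intro G _ _ hG L P U hUL hP ν hν hPν hn hLU hLN
  have hLP := hP.le
  have hPU := hP.le'
  by_cases hst : U ≤ stab ν
  · -- the invariant case
    by_cases hd : p ∣ charDegree ν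
    · have h0 : ∀ (V : Subgroup G) (hLV : L ≤ V) (hVU : V ≤ U),
          Cnt p (Subgroup.inclusion hLV) ν = 0 := by
        intro V hLV hVU
        rw [Cnt, Nat.card_eq_zero]
        left
        refine ⟨fun χ => χ.2.1 ?_⟩
        exact hd.trans (div_dvd_of_over hLV (hVU.trans hUL) χ.1.2 hν χ.2.2).1
      rw [h0 U hLU le_rfl, h0 _ hLN inf_le_left]
    · haveI := normal_subgroupOf hUL
      have hinv : ∀ g : U, g ∈ stab (ν ∘ Subgroup.subgroupOfEquivOfLe hLU) := by
        intro g
        have hgn : g ∈ Subgroup.normalizer ((L.subgroupOf U : Subgroup U) : Set U) := by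
          rw [Subgroup.normalizer_eq_top]; trivial
        refine ⟨hgn, ?_⟩
        funext x
        rw [tw_apply hgn]
        have h1 := congrFun (hst g.2).2 (Subgroup.subgroupOfEquivOfLe hLU x)
        rw [tw_apply (hUL g.2)] at h1
        exact h1
      obtain ⟨Δ, Q, _, _, _, π, m, Z, l, hI⟩ := exists_iso (p := p) (L.subgroupOf U)
        (isIrr_sub hLU hν) hinv (by
          have e : charDegree (ν ∘ Subgroup.subgroupOfEquivOfLe hLU) = charDegree ν :=
            charDegree_comp_one (Subgroup.subgroupOfEquivOfLe hLU).toMonoidHom ν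
          rwa [e])
      -- the corresponding Sylow subgroup
      have hkm : ∀ V : Subgroup U, L.subgroupOf U ≤ V → m.ker ≤ V.comap π := by
        intro V hV
        refine le_trans ?_ (Subgroup.comap_mono hV)
        rw [hI.comap]
        intro x hx
        show m x ∈ Z
        rw [MonoidHom.mem_ker.1 hx]
        exact one_mem Z
      have hcor : ∀ V : Subgroup U, L.subgroupOf U ≤ V →
          V.comap π = ((V.comap π).map m).comap m := by
        intro V hV
        rw [Subgroup.comap_map_eq, sup_eq_left.2 (hkm V hV)]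
      have hidx : ∀ (A B : Subgroup U) (A' B' : Subgroup Q), A.comap π = A'.comap m →
          B.comap π = B'.comap m → A.relIndex B = A'.relIndex B' := by
        intro A B A' B' hA hB
        have e1 : (A.comap π).relIndex (B.comap π) = A.relIndex B := by
          rw [Subgroup.relIndex_comap, Subgroup.map_comap_eq_self_of_surjective hI.surjπ]
        have e2 : (A'.comap m).relIndex (B'.comap m) = A'.relIndex B' := by
          rw [Subgroup.relIndex_comap, Subgroup.map_comap_eq_self_of_surjective hI.surjm]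
        rw [← e1, ← e2, hA, hB]
      have hLPU : L.subgroupOf U ≤ P.subgroupOf U := Subgroup.comap_mono hLP
      have hcP := hcor (P.subgroupOf U) hLPU
      have hle : ∀ (A B : Subgroup U) (A' B' : Subgroup Q), A.comap π = A'.comap m →
          B.comap π = B'.comap m → A ≤ B → A' ≤ B' := by
        intro A B A' B' hA hB hAB
        rw [← Subgroup.map_comap_eq_self_of_surjective hI.surjm A',
          ← Subgroup.map_comap_eq_self_of_surjective hI.surjm B', ← hA, ← hB]
        exact Subgroup.map_mono (Subgroup.comap_mono hAB)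
      set P' : Subgroup Q := ((P.subgroupOf U).comap π).map m with hP'
      have hZP' : Z ≤ P' := hle _ _ _ _ hI.comap hcP hLPU
      have hSM' : SM p Z P' ⊤ := by
        refine ⟨hZP', le_top, ?_, ?_⟩
        · obtain ⟨k, hk⟩ := hP.pow
          refine ⟨k, ?_⟩
          rw [← hk, ← hidx _ _ _ _ hI.comap hcP, Subgroup.relIndex_subgroupOf hPU]
        · have h1 : P'.relIndex ⊤ = P.relIndex U := by
            rw [← hidx (P.subgroupOf U) ⊤ P' ⊤ hcP (by rw [Subgroup.comap_top, Subgroup.comap_top]),
              Subgroup.relIndex_top_right]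
            rfl
          rw [h1]
          exact hP.ndvd
      have hZidx : Z.index = n := by
        rw [← hn, ← Subgroup.relIndex_top_right,
          ← hidx (L.subgroupOf U) ⊤ Z ⊤ hI.comap (by rw [Subgroup.comap_top, Subgroup.comap_top]),
          Subgroup.relIndex_top_right]
        rfl
      have hNcomap : (Subgroup.normalizer ((P.subgroupOf U : Subgroup U) : Set U)).comap π =
          (Subgroup.normalizer (P' : Set Q)).comap m := by
        have e1 := Subgroup.comap_normalizer_eq_of_surjective (P.subgroupOf U) hI.surjπ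
        have e2 := Subgroup.comap_normalizer_eq_of_surjective P' hI.surjm
        rw [e1, e2, ← hcP]
      have hZN' : Z ≤ Subgroup.normalizer (P' : Set Q) := hZP'.trans Subgroup.le_normalizer
      have hps : IsPSolvable p U := Cfsg.Agent.Lib.PSolvable.IsPSolvable_of_injective p hG
        U.subtype U.subtype_injective
      have key := rel_central hcen ih Q (hI.psol hps) Z P' hI.cen l hSM' hZidx hZN'
      have hLN2 : L.subgroupOf U ≤ Subgroup.normalizer ((P.subgroupOf U : Subgroup U) : Set U) :=
        hLPU.trans Subgroup.le_normalizer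
      have c1 := hI.cnt ⊤ ⊤ le_top le_top (by rw [Subgroup.comap_top, Subgroup.comap_top])
      have c2 := hI.cnt _ _ hLN2 hZN' hNcomap
      rw [cnt_top rfl, cnt_top rfl] at c1
      rw [cnt_amb hLU le_rfl, cnt_amb hLN inf_le_left,
        cnt_top (Subgroup.subgroupOf_self U)]
      refine (c1.trans (key.trans c2.symm)).trans ?_
      refine cnt_eq_of_eq _ _ ?_ _
      rw [← Subgroup.subgroupOf_normalizer_eq hPU, inf_comm, Subgroup.inf_subgroupOf_right]
  · -- the non-invariant case
    have hidx : ∀ V : Subgroup G, P ≤ V → V ≤ U → ¬ p ∣ (stab ν).relIndex V := by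
      intro V hPV hVU h
      exact (hP.of_le hPV hVU).ndvd (h.trans (Subgroup.relIndex_dvd_of_le_left _ hPν))
    have hPN : P ≤ U ⊓ Subgroup.normalizer (P : Set G) := le_inf hPU Subgroup.le_normalizer
    have hLst : L ≤ stab ν := hLP.trans hPν
    rw [cnt_clifford hp.out hLU hUL hν (le_inf hLU hLst) (hidx U hPU le_rfl),
      cnt_clifford hp.out hLN (inf_le_left.trans hUL) hν (le_inf hLN hLst)
        (hidx _ hPN inf_le_left)]
    have hlt : U ⊓ stab ν < U := lt_of_le_of_ne inf_le_left (fun h => hst (inf_eq_left.1 h))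
    have h2 := ih (L.relIndex (U ⊓ stab ν)) (by
      rw [← hn]; exact relIndex_lt_of_lt (le_inf hLU hLst) hlt) G hG L P (U ⊓ stab ν)
      (inf_le_left.trans hUL) (hP.of_le (le_inf hPU hPν) inf_le_left) ν hν hPν rfl
      (le_inf hLU hLst) (le_inf (le_inf hLU hLst) (hLN.trans inf_le_right))
    rw [h2]
    refine cnt_eq_of_eq _ _ ?_ _
    rw [inf_assoc, inf_assoc, inf_comm (stab ν)]

/-- The relative McKay theorem for `p`-solvable groups, assuming the central case. -/
theorem relative_mckay (hcen : CentralCase.{u} p) {G : Type u} [Group G] [Finite G]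
    (hG : IsPSolvable p G) (L : Subgroup G) [L.Normal] (S : Sylow p G) (P : Subgroup G)
    (hP : P = L ⊔ (S : Subgroup G)) (hLN : L ≤ Subgroup.normalizer (P : Set G))
    {ν : L → ℂ} (hν : IsIrrCharacter L ν) (hPν : P ≤ stab ν) :
    Cnt p L.subtype ν = Cnt p (Subgroup.inclusion hLN) ν := by
  have hLn : (⊤ : Subgroup G) ≤ Subgroup.normalizer (L : Set G) := by
    rw [Subgroup.normalizer_eq_top]
  have hS : SylIn p (S : Subgroup G) ⊤ :=
    ⟨le_top, S.isPGroup', by rw [Subgroup.relIndex_top_right]; exact S.not_dvd_index⟩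
  have hSM : SM p L P ⊤ := hP ▸ hS.sm le_top hLn
  have h := rel hcen _ G hG L P ⊤ hLn hSM ν hν hPν rfl le_top
    (le_inf le_top hLN)
  rw [cnt_top rfl] at h
  rw [h]
  exact cnt_eq_of_eq _ _ (top_inf_eq _) _

end Cfsg.Agent.H672.RM
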