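import Mathlib
import Cfsg.Agent.H672.RM.Main
import Cfsg.Prelude.Def_BlockLocal
set_option linter.all false

/-!
# Relative McKay for `p`-solvable groups: the final form
-/

set_option autoImplicit false
set_option linter.style.haveILetI false
set_option linter.unusedSectionVars false
open Cfsg

namespace Cfsg.Agent.H672.RM

open Cfsg.Agent.Characters.Core Cfsg.Agent.Characters.Clifford Cfsg.Agent.H672
open scoped ComplexConjugate

universe u

variable {p : ℕ} [hp : Fact p.Prime]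

/-- The central case from the form with central characters. -/
theorem centralCase_of
    (h : ∀ {Γ : Type u} [Group Γ] [Finite Γ] (Z K : Subgroup Γ), Z ≤ Subgroup.center Γ → K.Normal →
      Z ≤ K → ¬ p ∣ Z.relIndex K → ∀ (S : Sylow p Γ), (K ⊔ (S : Subgroup Γ)).Normal →
      ∀ (lam : Z →* ℂˣ) (N : Subgroup Γ), N = Subgroup.normalizer ((S : Subgroup Γ) : Set Γ) →
      ∀ (hZN : Z ≤ N),
      Nat.card {χ : IrrCharacter Γ // ¬ p ∣ charDegree (χ : Γ → ℂ) ∧
        ∀ z : Z, (χ : Γ → ℂ) z = (χ : Γ → ℂ) 1 * lam z} =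
      Nat.card {ψ : IrrCharacter N // ¬ p ∣ charDegree (ψ : N → ℂ) ∧
        ∀ z : Z, (ψ : N → ℂ) ⟨z, hZN z.2⟩ = (ψ : N → ℂ) 1 * lam z}) :
    CentralCase.{u} p := by
  intro Q _ _ Z K S hZ hK hZK hd hS hKS l hZN
  have hS' : ¬ p ∣ S.index := by
    have := hS.ndvd
    rwa [Subgroup.relIndex_top_right] at this
  have h1 := h Z K hZ hK hZK hd (hS.pg.toSylow hS') hKS l _ rfl hZN
  have e1 : Cnt p Z.subtype (lf l) = Nat.card {χ : IrrCharacter Q // ¬ p ∣ charDegree (χ : Q → ℂ) ∧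
        ∀ z : Z, (χ : Q → ℂ) z = (χ : Q → ℂ) 1 * l z} := by
    refine Nat.card_congr (Equiv.subtypeEquivRight fun χ => ?_)
    rw [over_lin_iff Z.subtype (fun n => hZ n.2) χ.2]
    rfl
  have e2 : Cnt p (Subgroup.inclusion hZN) (lf l) =
      Nat.card {ψ : IrrCharacter (Subgroup.normalizer (S : Set Q)) //
        ¬ p ∣ charDegree (ψ : Subgroup.normalizer (S : Set Q) → ℂ) ∧
        ∀ z : Z, (ψ : Subgroup.normalizer (S : Set Q) → ℂ) ⟨z, hZN z.2⟩ =
          (ψ : Subgroup.normalizer (S : Set Q) → ℂ) 1 * l z} := by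
    refine Nat.card_congr (Equiv.subtypeEquivRight fun χ => ?_)
    rw [over_lin_iff (Subgroup.inclusion hZN) (fun n => by
      rw [Subgroup.mem_center_iff]
      intro g
      exact Subtype.ext (Subgroup.mem_center_iff.1 (hZ n.2) g)) χ.2]
    rfl
  rw [e1, e2]
  exact h1

/-- Lying over in terms of finite sums. -/
theorem over_iff_finsum {G H : Type*} [Group G] [Group H] [Finite H] (f : H →* G) (χ : G → ℂ)
    (θ : H → ℂ) : Over f χ θ ↔ (∑ᶠ l : H, χ (f l) * (starRingEnd ℂ) (θ l)) ≠ 0 := by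
  letI := Fintype.ofFinite H
  rw [over_iff, finsum_eq_sum_of_fintype, classInner]
  simp only [Function.comp]
  constructor
  · intro h h1
    apply h
    rw [h1]
    simp
  · intro h h1
    apply h
    rcases mul_eq_zero.1 h1 with h2 | h2
    · exact absurd h2 (by simp)
    · exact h2

theorem le_stab_of_isConjCharOf {G : Type u} [Group G] (L : Subgroup G) [L.Normal] (P : Subgroup G)
    (ν : L → ℂ) (hν : ∀ x ∈ P, Cfsg.IsConjCharOf L x ν ν) : P ≤ stab ν := by
  intro x hx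
  have hxn : x ∈ Subgroup.normalizer (L : Set G) := by
    rw [Subgroup.normalizer_eq_top]; trivial
  refine ⟨hxn, ?_⟩
  funext k
  rw [tw_apply hxn]
  exact hν x hx _ _ rfl

/-- The relative McKay theorem for `p`-solvable groups in the form of the statement, assuming the
central case. -/
theorem final (hcen : CentralCase.{u} p) {G : Type u} [Group G] [Finite G]
    (hG : Cfsg.IsPSolvable p G) (L : Subgroup G) [L.Normal] (S : Sylow p G)
    (P : Subgroup G) (hP : P = L ⊔ (S : Subgroup G))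
    (hLN : L ≤ (Subgroup.normalizer ((P : Subgroup G) : Set G))) (ν : Cfsg.IrrCharacter ↥L)
    (hν : ∀ x ∈ P, Cfsg.IsConjCharOf L x (ν : ↥L → ℂ) (ν : ↥L → ℂ)) :
    Nat.card {χ : Cfsg.IrrCharacter G // ¬ p ∣ Cfsg.charDegree (χ : G → ℂ) ∧
      (∑ᶠ l : ↥L, (χ : G → ℂ) (l : G) * (starRingEnd ℂ) ((ν : ↥L → ℂ) l)) ≠ 0} =
    Nat.card {ψ : Cfsg.IrrCharacter ↥(Subgroup.normalizer ((P : Subgroup G) : Set G)) //
      ¬ p ∣ Cfsg.charDegree (ψ : ↥(Subgroup.normalizer ((P : Subgroup G) : Set G)) → ℂ) ∧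
      (∑ᶠ l : ↥L, (ψ : ↥(Subgroup.normalizer ((P : Subgroup G) : Set G)) → ℂ)
        (Subgroup.inclusion hLN l) * (starRingEnd ℂ) ((ν : ↥L → ℂ) l)) ≠ 0} := by
  have h := relative_mckay hcen hG L S P hP hLN ν.2 (le_stab_of_isConjCharOf L P _ hν)
  unfold Cnt at h
  simp only [over_iff_finsum] at h
  exact h

end Cfsg.Agent.H672.RM
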